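import Cfsg.Agent.H144.TC.Types
import Cfsg.Agent.H140.TC.SpBase
import Cfsg.Agent.H538.TC.SLThree
import Cfsg.Agent.H955.Sp
import Cfsg.Agent.LieClassical.SympCenter
import Cfsg.Agent.S2445

/-!
# `Sp_6(q)`: two conjugates of one element of the Levi subgroup (S2464, `PSp_8(q)`, box E)

* `sing_cubic` : `Sing ξ (cu s r) (cu r s)` for `ξ` with irreducible characteristic polynomial `cu s r`.
* `exists_coord` : symplectic coordinates in which a nonscalar isometry has a nonscalar corner of determinant `Δ`.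
* `sp_six` : every nonscalar isometry of a symplectic space of dimension `6` is `X Z`, `X` and `Z` of type `ξ`.
-/

set_option autoImplicit false
open Polynomial

noncomputable section

namespace Cfsg.Agent.H744.TC

open Cfsg.Agent.H144 Cfsg.Agent.H144.War Cfsg.Agent.H144.TC
open Cfsg.Agent.H126.M3 (cu)
open Cfsg.Agent.H538.TC (Good sl_three)
open Cfsg.Agent.S2445 (form form_alt form_nond form_apply mem_of_iso)

/-! ### the cubic -/

section Cubic

variable {F V : Type*} [Field F] [AddCommGroup V] [Module F V]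

theorem aeval_cu (x : V ≃ₗ[F] V) (s r : F) (v : V) :
    aeval (x : Module.End F V) (cu s r) v = x (x (x v)) - s • x (x v) + r • x v - v := by
  simp only [cu, map_sub, map_add, map_mul, aeval_X, aeval_C, LinearMap.sub_apply, LinearMap.add_apply,
    Module.algebraMap_end_eq_smul_id, Module.End.mul_apply, LinearMap.smul_apply, LinearMap.id_apply, pow_succ, pow_zero,
    one_mul, one_smul]
  rfl

theorem aeval_cu_inv (x : V ≃ₗ[F] V) (s r : F) (v : V) :
    aeval ((x⁻¹ : V ≃ₗ[F] V) : Module.End F V) (cu r s) v =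
      - aeval (x : Module.End F V) (cu s r) (x⁻¹ (x⁻¹ (x⁻¹ v))) := by
  rw [aeval_cu, aeval_cu]
  simp only [app_inv]
  abel

theorem cu_monic (s r : F) : (cu s r).Monic ∧ (cu s r).natDegree = 3 := by
  have h1 : (cu s r) = X ^ 3 + (-(C s) * X ^ 2 + C r * X - C 1) := by
    rw [cu]
    ring
  have h2 : (-(C s) * X ^ 2 + C r * X - C 1 : F[X]).degree < 3 := by
    refine lt_of_le_of_lt (b := ((2 : ℕ) : WithBot ℕ)) ?_ (by norm_num)
    rw [← natDegree_le_iff_degree_le]
    compute_degree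
  constructor
  · rw [h1]
    exact monic_X_pow_add (by exact_mod_cast h2)
  · rw [h1]
    exact natDegree_eq_of_degree_eq_some (by
      rw [degree_add_eq_left_of_degree_lt (by rw [degree_X_pow]; exact_mod_cast h2), degree_X_pow])

theorem cu_two (s r : F) : (cu s r).coeff 2 = -s := by
  rw [cu]
  exact Cfsg.Agent.H538.TC.c3_two s r 1

theorem cu_root (s : F) : (cu s s).IsRoot 1 := by
  simp [cu]

theorem cu_coprime {s r : F} (hirr : Irreducible (cu s r)) : IsCoprime (cu s r) (cu r s) := by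
  rw [hirr.coprime_iff_not_dvd]
  intro hd
  obtain ⟨m1, d1⟩ := cu_monic s r
  obtain ⟨m2, d2⟩ := cu_monic r s
  have h1 : cu r s = cu s r := eq_of_monic_of_dvd_of_natDegree_le m1 m2 hd (by rw [d1, d2])
  have h2 : -s = -r := by rw [← cu_two s r, ← cu_two r s, h1]
  have h2' : s = r := neg_injective h2
  subst h2'
  have h4 := Polynomial.degree_eq_one_of_irreducible_of_root hirr (cu_root s)
  rw [degree_eq_natDegree m1.ne_zero, d1] at h4
  norm_num at h4

/-- **the polynomial conditions** -/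
theorem sing_cubic {s r : F} (hirr : Irreducible (cu s r)) {ξ : V ≃ₗ[F] V}
    (hξ : ∀ v, aeval (ξ : Module.End F V) (cu s r) v = 0) : Sing ξ (cu s r) (cu r s) := by
  have h1 : ∀ v, aeval ((ξ⁻¹ : V ≃ₗ[F] V) : Module.End F V) (cu r s) v = 0 := fun v => by
    rw [aeval_cu_inv, hξ, neg_zero]
  obtain ⟨a, b, hab⟩ := cu_coprime hirr
  have key : ∀ (y : Module.End F V) (v : V), aeval y (cu s r) v = 0 → aeval y (cu r s) v = 0 → v = 0 := by
    intro y v e1 e2
    have e3 := congrArg (fun p : F[X] => aeval y p v) hab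
    simp only [map_add, map_mul, map_one, LinearMap.add_apply, Module.End.mul_apply, e1, e2, map_zero, add_zero,
      Module.End.one_apply] at e3
    exact e3.symm
  exact ⟨hξ, fun v hv => key _ v hv (h1 v), h1, fun v hv => key _ v (hξ v) hv⟩

end Cubic

/-! ### coordinates -/

section Coord

open Matrix

variable {F : Type*} [Field F]

/-- `a ↦ (a, 0)` -/
def jl (n : ℕ) (F : Type*) [Field F] : (Fin n → F) →ₗ[F] (Fin n ⊕ Fin n → F) where
  toFun a := Sum.elim a (0 : Fin n → F)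
  map_add' a b := by ext (i | i) <;> simp
  map_smul' c a := by ext (i | i) <;> simp

/-- `b ↦ (0, b)` -/
def jr (n : ℕ) (F : Type*) [Field F] : (Fin n → F) →ₗ[F] (Fin n ⊕ Fin n → F) where
  toFun a := Sum.elim (0 : Fin n → F) a
  map_add' a b := by ext (i | i) <;> simp
  map_smul' c a := by ext (i | i) <;> simp

theorem jl_apply (n : ℕ) (a : Fin n → F) : jl n F a = Sum.elim a (0 : Fin n → F) := rfl

theorem jr_apply (n : ℕ) (a : Fin n → F) : jr n F a = Sum.elim (0 : Fin n → F) a := rfl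

theorem jlr {n : ℕ} (v : Fin n ⊕ Fin n → F) : jl n F (v ∘ Sum.inl) + jr n F (v ∘ Sum.inr) = v := by
  ext (i | i) <;> simp [jl_apply, jr_apply]

theorem form_jl {n : ℕ} (a b : Fin n → F) : form F n (jl n F a) (jl n F b) = 0 := by
  rw [form_apply, Matrix.J, jl_apply, jl_apply, fromBlocks_mulVec]
  simp

theorem form_jr {n : ℕ} (a b : Fin n → F) : form F n (jr n F a) (jr n F b) = 0 := by
  rw [form_apply, Matrix.J, jr_apply, jr_apply, fromBlocks_mulVec]
  simp

theorem exists_coord {V : Type*} [AddCommGroup V] [Module F V] [FiniteDimensional F V]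
    {B : LinearMap.BilinForm F V} (hB : Alt B) (hN : Nond B) {n : ℕ} (hn : 2 ≤ n)
    (hV : Module.finrank F V = 2 * n) {g : V ≃ₗ[F] V} (hg : Iso B g) (hns : ∀ c : F, ¬ ∀ v, g v = c • v) {Δ : F}
    (hΔ : Δ ≠ 0) : ∃ (w : V ≃ₗ[F] (Fin n ⊕ Fin n → F)) (A B' C' D : Matrix (Fin n) (Fin n) F),
      (∀ x y, form F n (w x) (w y) = B x y) ∧ (∀ v, w (g v) = (Matrix.fromBlocks A B' C' D) *ᵥ (w v)) ∧
      A.det = Δ ∧ ∀ a, A ≠ Matrix.scalar (Fin n) a := by
  obtain ⟨e, he⟩ := Cfsg.Agent.H955.exists_sp_model (B := B) ⟨hB, hN⟩ hV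
  have he' : ∀ x y, form F n (e x) (e y) = B x y := fun x y => by rw [form_apply]; exact he x y
  have hiso : Iso (form F n) (e.symm.trans (g.trans e)) := by
    intro x y
    obtain ⟨x, rfl⟩ := e.surjective x
    obtain ⟨y, rfl⟩ := e.surjective y
    simp only [LinearEquiv.trans_apply, LinearEquiv.symm_apply_apply]
    rw [he', he', hg]
  obtain ⟨M, hM⟩ : ∃ M : Matrix.symplecticGroup (Fin n) F, ∀ v, (M : Matrix _ _ F) *ᵥ (e v) = e (g v) := by
    refine ⟨⟨_, mem_of_iso hiso⟩, fun v => ?_⟩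
    change (LinearMap.toMatrix' _) *ᵥ _ = _
    rw [LinearMap.toMatrix'_mulVec]
    change e (g (e.symm (e v))) = _
    rw [e.symm_apply_apply]
  have hMc : M ∉ Subgroup.center (Matrix.symplecticGroup (Fin n) F) := by
    intro hc
    obtain ⟨a, ha⟩ := (Cfsg.Agent.LieClassical.SympCenter.mem_center_iff n M).1 hc
    apply hns a
    intro v
    apply e.injective
    rw [← hM, map_smul, ha, Matrix.smul_mulVec, Matrix.one_mulVec]
  obtain ⟨t, A, B', C', D, ht, -, hd, hs⟩ := Cfsg.Agent.H140.TC.Sp.exists_corner hn hMc hΔ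
  refine ⟨e.trans (Cfsg.Agent.S2445.act t), A, B', C', D, fun x y => ?_, fun v => ?_, hd, hs⟩
  · rw [LinearEquiv.trans_apply, LinearEquiv.trans_apply, Cfsg.Agent.S2445.act_iso, he']
  · rw [← ht, LinearEquiv.trans_apply, LinearEquiv.trans_apply, Cfsg.Agent.S2445.act_apply,
      Cfsg.Agent.S2445.act_apply, Matrix.mulVec_mulVec, ← Submonoid.coe_mul, inv_mul_cancel_right, Submonoid.coe_mul,
      ← Matrix.mulVec_mulVec, hM]

end Coord

/-! ### the factorization of the corner -/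

section Fac

open Matrix

variable {F : Type*} [Field F]

theorem fac_three [Finite F] {s r : F} (hgood : Good s r) (hirr : Irreducible (cu s r))
    {ξ : (Fin 3 → F) ≃ₗ[F] (Fin 3 → F)}
    (hξ : (LinearMap.toMatrix' (ξ : (Fin 3 → F) →ₗ[F] (Fin 3 → F))).charpoly = cu s r)
    (l : Matrix.SpecialLinearGroup (Fin 3) F)
    (hns : ∀ a : F, (l : Matrix (Fin 3) (Fin 3) F) ≠ a • (1 : Matrix (Fin 3) (Fin 3) F)) :
    FacT ξ ξ (Matrix.SpecialLinearGroup.toLin' l) := by
  have hd : (LinearMap.toMatrix' (ξ : (Fin 3 → F) →ₗ[F] (Fin 3 → F))).det = 1 := by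
    have h1 := congrArg (fun p : F[X] => p.coeff 0) hξ
    have h2 : (cu s r).coeff 0 = -1 := by simp [cu, coeff_X, coeff_C, coeff_X_pow]
    simp only [h2] at h1
    rw [Matrix.det_eq_sign_charpoly_coeff, h1]
    norm_num [Fintype.card_fin]
  obtain ⟨c, hc⟩ : ∃ c : Matrix.SpecialLinearGroup (Fin 3) F,
      (c : Matrix (Fin 3) (Fin 3) F) = LinearMap.toMatrix' (ξ : (Fin 3 → F) →ₗ[F] (Fin 3 → F)) := ⟨⟨_, hd⟩, rfl⟩
  have hcξ : ∀ v, c.toLin' v = ξ v := by
    intro v
    rw [Matrix.SpecialLinearGroup.toLin'_apply, hc, Matrix.toLin'_toMatrix']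
    rfl
  obtain ⟨a, b, hab⟩ := sl_three hgood (c := c) (by rw [hc]; exact hξ) hirr l hns
  refine ⟨(Matrix.SpecialLinearGroup.toLin' a).symm, (Matrix.SpecialLinearGroup.toLin' b).symm, fun v => ?_⟩
  rw [tr_apply, tr_apply, LinearEquiv.symm_symm, LinearEquiv.symm_symm, ← hcξ, ← hcξ, hab]
  simp only [map_mul, map_inv, LinearEquiv.mul_apply]
  rfl

theorem aeval_of_toMatrix {s r : F} {ξ : (Fin 3 → F) ≃ₗ[F] (Fin 3 → F)}
    (hξ : (LinearMap.toMatrix' (ξ : (Fin 3 → F) →ₗ[F] (Fin 3 → F))).charpoly = cu s r) (v : Fin 3 → F) :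
    aeval (ξ : Module.End F (Fin 3 → F)) (cu s r) v = 0 := by
  have h1 : (ξ : Module.End F (Fin 3 → F)).charpoly = cu s r := by
    rw [← hξ, ← Matrix.charpoly_toLin', Matrix.toLin'_toMatrix']
  rw [← h1, LinearMap.aeval_self_charpoly, LinearMap.zero_apply]

end Fac

/-! ### the theorem -/

set_option linter.unusedVariables false in
/-- **`Sp_6(q)`.** -/
theorem sp_six {F V : Type} [Field F] [Finite F] [AddCommGroup V] [Module F V] [FiniteDimensional F V]
    (h2 : (2 : F) ≠ 0) {B : LinearMap.BilinForm F V} (hB : Alt B) (hN : Nond B) (h6 : Module.finrank F V = 6)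
    {s r : F} (hgood : Good s r) (hirr : Irreducible (cu s r)) {ξ : (Fin 3 → F) ≃ₗ[F] (Fin 3 → F)}
    (hξ : (LinearMap.toMatrix' (ξ : (Fin 3 → F) →ₗ[F] (Fin 3 → F))).charpoly = cu s r) {g : V ≃ₗ[F] V}
    (hg : Iso B g) (hns : ∀ c : F, ¬ ∀ v, g v = c • v) : TT B ξ ξ g := by
  obtain ⟨w, A, B', C', D, hw, hwg, hAd, hAs⟩ := exists_coord hB hN (n := 3) (by norm_num) (by rw [h6]) hg hns
    (Δ := 1) one_ne_zero
  obtain ⟨l, hl⟩ : ∃ l : Matrix.SpecialLinearGroup (Fin 3) F, (l : Matrix (Fin 3) (Fin 3) F) = A := ⟨⟨A, hAd⟩, rfl⟩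
  have hfac := fac_three hgood hirr hξ l (fun a h => hAs a (by
    rw [← hl, h, Matrix.scalar_apply, Matrix.smul_one_eq_diagonal]))
  have hS := sing_cubic hirr (aeval_of_toMatrix hξ)
  let iP : (Fin 3 → F) →ₗ[F] V := (w.symm : (Fin 3 ⊕ Fin 3 → F) →ₗ[F] V) ∘ₗ jl 3 F
  let iQ : (Fin 3 → F) →ₗ[F] V := (w.symm : (Fin 3 ⊕ Fin 3 → F) →ₗ[F] V) ∘ₗ jr 3 F
  have wP : ∀ a, w (iP a) = jl 3 F a := fun a => w.apply_symm_apply _
  have wQ : ∀ a, w (iQ a) = jr 3 F a := fun a => w.apply_symm_apply _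
  have hi : Function.Injective iP := by
    intro a b h
    have h1 := congrArg w h
    rw [wP, wP] at h1
    ext i
    exact congrFun h1 (Sum.inl i)
  have hP : Orth B (LinearMap.range iP) (LinearMap.range iP) := by
    rintro _ ⟨a, rfl⟩ _ ⟨b, rfl⟩
    rw [← hw, wP, wP, form_jl]
  have hQ : Orth B (LinearMap.range iQ) (LinearMap.range iQ) := by
    rintro _ ⟨a, rfl⟩ _ ⟨b, rfl⟩
    rw [← hw, wQ, wQ, form_jr]
  have hPQ : LinearMap.range iP ⊔ LinearMap.range iQ = ⊤ := by
    rw [eq_top_iff]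
    intro v _
    have h1 : iP (w v ∘ Sum.inl) + iQ (w v ∘ Sum.inr) = v := by
      apply w.injective
      rw [map_add, wP, wQ, jlr]
    rw [← h1]
    exact Submodule.add_mem_sup ⟨_, rfl⟩ ⟨_, rfl⟩
  let θ : LinearMap.range iP ≃ₗ[F] (Fin 3 → F) := (LinearEquiv.ofInjective iP hi).symm
  have hθ : ∀ a, (θ.symm a : V) = iP a := fun a => rfl
  refine tt_of_corner hB hN hP hQ hPQ hS hS (A := tr θ (Matrix.SpecialLinearGroup.toLin' l)) ?_ hg ?_
  · exact hfac.conj θ (fun v => by rw [tr_apply, θ.apply_symm_apply])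
  · intro v
    obtain ⟨a, rfl⟩ := θ.symm.surjective v
    rw [tr_apply, θ.apply_symm_apply, hθ, hθ]
    refine ⟨C'.mulVec a, ?_⟩
    apply w.injective
    rw [wQ, map_sub, hwg, wP, wP, jl_apply, jl_apply, jr_apply, Matrix.fromBlocks_mulVec,
      Matrix.SpecialLinearGroup.toLin'_apply, Matrix.toLin'_apply, hl]
    ext (i | i) <;> simp

end Cfsg.Agent.H744.TC
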